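import Groth.Agent.Lib.RightAdj22.Coprod
import Groth.Agent.Lib.OX.CompactPerfect
import Groth.Agent.Lib.OX.BVdB
import Groth.Agent.Lib.OX.GeneratorBound
import Groth.Agent.Lib.OX.AffineReflect
import Groth.Agent.Lib.TorBC25.Perfect
import Groth.Agent.Lib.TorBC25.BCFinal
import Groth.Agent.Lib.RightAdj22.QFun

/-! # Direct images preserving perfect objects: base change -/

set_option autoImplicit false
set_option maxHeartbeats 1000000
set_option linter.style.haveILetI false
universe u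

open CategoryTheory CategoryTheory.Limits AlgebraicGeometry

attribute [local instance] HasDerivedCategory.standard

noncomputable section

namespace GrothLib.BaseChange22

open GrothLib.OX GrothLib.TorBC25

variable {X Y : Scheme.{u}}

/-- Compact objects of `D_qc` are compact in the derived category, against quasi-coherent families. -/
theorem finHom_D_of_DQCoh {K : DCoh.DQCoh X}
    (hK : ∀ (ι : Type u) (M : ι → DCoh.DQCoh X), TriCat.FinHom M K) (ι : Type u) (M : ι → DCoh.D X)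
    [HasCoproduct M] (hM : ∀ i, DCoh.IsQCohD (M i)) : TriCat.FinHom M K.obj := fun ψ => by
  classical
  haveI := preservesColimitOfShape_of_createsColimitsOfShape_and_hasColimitsOfShape
    (F := (DCoh.IsQCohD (X := X)).ι) (J := Discrete ι)
  let M' : ι → DCoh.DQCoh X := fun i => ⟨M i, hM i⟩
  let φ : (∐ M) ⟶ (∐ M').obj := Sigma.desc fun i => (Sigma.ι M' i).hom
  haveI : IsIso φ := inferInstanceAs (IsIso (sigmaComparison (DCoh.IsQCohD (X := X)).ι M'))
  obtain ⟨c, hc⟩ := hK ι M' (ObjectProperty.homMk (ψ ≫ φ))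
  suffices h : ∀ c, ∃ d, PerfAux.homSumToHomCoprod K.obj M d ≫ φ = (PerfAux.homSumToHomCoprod K M' c).hom by
    obtain ⟨d, hd⟩ := h c
    exact ⟨d, (cancel_mono φ).1 (hd.trans (congrArg InducedCategory.Hom.hom hc))⟩
  intro c
  induction c using DirectSum.induction_on with
  | zero => exact ⟨0, by rw [map_zero, map_zero, zero_comp]; rfl⟩
  | of i x =>
    refine ⟨DirectSum.of (fun i => K.obj ⟶ M i) i x.hom, ?_⟩
    rw [TriCat.homSum_of, TriCat.homSum_of, Category.assoc, Sigma.ι_desc]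
    rfl
  | add a b ha hb =>
    obtain ⟨d, hd⟩ := ha
    obtain ⟨d', hd'⟩ := hb
    exact ⟨d + d', by rw [map_add, map_add, Preadditive.add_comp, hd, hd']; rfl⟩

/-- If the right adjoint commutes with direct sums, perfect objects go to perfect objects. -/
theorem isPerfect_obj_of_sum [CompactSpace X] [QuasiSeparatedSpace X] [QuasiSeparatedSpace Y]
    {F : DCoh.DQCoh X ⥤ DCoh.DQCoh Y} [F.Additive] {a : DCoh.DQCoh Y ⥤ DCoh.DQCoh X} (adj : F ⊣ a)
    (hsum : ∀ {ι : Type u} (K : ι → DCoh.DQCoh Y) [HasCoproduct K] [HasCoproduct fun i => a.obj (K i)],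
      IsIso (Sigma.desc (fun i => a.map (Sigma.ι K i))))
    (P : DCoh.DQCoh X) (hP : DCoh.IsPerfect P.obj) : DCoh.IsPerfect (F.obj P).obj :=
  isPerfect_of_finHom (F.obj P).property fun ι M _ hM =>
    finHom_D_of_DQCoh (fun _ M' => finHom_leftAdjoint adj M' (hsum M') inferInstance (finHom_DQCoh hP _)) ι M hM

section Square

variable {X' Y' : Scheme.{u}} {f : X ⟶ Y} {g : Y' ⟶ Y} {f' : X' ⟶ Y'} {g' : X' ⟶ X}
variable (h : IsPullback g' f' f g)

include h in
/-- Over an affine open of the base mapping into an affine, the pullback of a generator generates. -/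
theorem isZero_of_RR_comp {U : Y.Opens} (hU : IsAffineOpen U) {U' : Y'.Opens} (hU' : IsAffineOpen U')
    (e : U' ≤ g ⁻¹ᵁ U) {E : DCoh.D (f' ⁻¹ᵁ U').toScheme} (hE : DCoh.IsQCohD E)
    (h0 : IsZero ((RR g').obj ((RR (f' ⁻¹ᵁ U').ι).obj E))) : IsZero E := by
  let iU : U.toScheme ⟶ Y := U.ι
  let iX : (f ⁻¹ᵁ U).toScheme ⟶ X := (f ⁻¹ᵁ U).ι
  let g₀ : U'.toScheme ⟶ U.toScheme := g.resLE U U' e
  have hg₀ : g₀ ≫ iU = U'.ι ≫ g := Scheme.Hom.resLE_comp_ι _ e
  haveI : IsAffine U.toScheme := hU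
  haveI : IsAffine U'.toScheme := hU'
  have eX : f' ⁻¹ᵁ U' ≤ g' ⁻¹ᵁ (f ⁻¹ᵁ U) := by
    intro x hx
    show f (g' x) ∈ U
    rw [← Scheme.Hom.comp_apply, h.w, Scheme.Hom.comp_apply]
    exact e hx
  let k₀ : (f' ⁻¹ᵁ U').toScheme ⟶ (f ⁻¹ᵁ U).toScheme := g'.resLE _ _ eX
  have hk₀ : k₀ ≫ iX = (f' ⁻¹ᵁ U').ι ≫ g' := Scheme.Hom.resLE_comp_ι _ eX
  have hsq' : IsPullback (f' ⁻¹ᵁ U').ι (f' ∣_ U') f' U'.ι := (isPullback_morphismRestrict f' U').flip
  have hsq : IsPullback iX (f ∣_ U) f iU := (isPullback_morphismRestrict f U).flip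
  have hbig : IsPullback (k₀ ≫ iX) (f' ∣_ U') f (g₀ ≫ iU) := by
    rw [hk₀, hg₀]
    exact hsq'.paste_horiz h
  have hmid : IsPullback k₀ (f' ∣_ U') (f ∣_ U) g₀ := by
    refine IsPullback.of_right hbig ?_ hsq
    rw [← cancel_mono iU, Category.assoc, Category.assoc, hsq.w.symm, ← Category.assoc, hbig.w]
  haveI : IsAffineHom k₀ := MorphismProperty.of_isPullback hmid.flip (inferInstance : IsAffineHom g₀)
  haveI hQS : QuasiSeparated k₀ := inferInstance
  have h1 : IsZero ((RR iX).obj ((RR k₀).obj E)) :=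
    (h0.of_iso ((RRCompIso (f' ⁻¹ᵁ U').ι g').app E).symm).of_iso
      (((RRCompIso k₀ iX).app E) ≪≫ (RRCongr hk₀).app E)
  have h2 : IsZero ((RR k₀).obj E) :=
    ((resD iX).map_isZero h1).of_iso (@asIso _ _ _ _ _ (isIso_resDAdj_counit_app iX ((RR k₀).obj E))).symm
  haveI hH : ∀ j, IsZero (DCoh.HD E j) := isZero_of_isZero_Rres k₀ hE h2
  obtain ⟨Z, hZ⟩ : ∃ Z : DCoh.D (f' ⁻¹ᵁ U').toScheme, IsZero Z := HasZeroObject.zero
  haveI : IsIso (0 : Z ⟶ E) := (DerivedCategory.isIso_iff _ _).2 fun q =>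
    ⟨0, ((DerivedCategory.homologyFunctor _ q).map_isZero hZ).eq_of_src _ _, (hH q).eq_of_src _ _⟩
  exact hZ.of_iso (asIso (0 : Z ⟶ E)).symm

variable [CompactSpace X] [QuasiSeparatedSpace X] [CompactSpace X'] [QuasiSeparatedSpace X'] [CompactSpace Y']
  [QuasiSeparatedSpace Y']

include h in
/-- **Base change preserves perfect direct images.** -/
theorem isPerfect_RR_baseChange (hbc : BC h) (hP : ∀ P : DCoh.D X, DCoh.IsPerfect P → DCoh.IsPerfect ((RR f).obj P))
    {E : DCoh.D X'} (hE : DCoh.IsPerfect E) : DCoh.IsPerfect ((RR f').obj E) := by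
  haveI : QuasiCompact f' := quasiCompact_of_compactSpace f'
  obtain ⟨G, hG, -, hgen⟩ := hasGen_of_qcqs X ⊥ isCompact_empty
  obtain ⟨_, ⟨a⟩⟩ := exists_adjRR g
  obtain ⟨_, ⟨a'⟩⟩ := exists_adjRR g'
  refine isPerfect_of_local fun y => ?_
  obtain ⟨U, hU, hyU, -⟩ := exists_isAffineOpen_mem_and_subset (x := g y) (U := ⊤) trivial
  obtain ⟨U', hU', hy, e⟩ := exists_isAffineOpen_mem_and_subset (x := y) (U := g ⁻¹ᵁ U) hyU
  refine ⟨U'.toScheme, U'.ι, inferInstance, by rw [Scheme.Opens.range_ι]; exact hy, ?_⟩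
  let i' : (f' ⁻¹ᵁ U').toScheme ⟶ X' := (f' ⁻¹ᵁ U').ι
  let f'' := f' ∣_ U'
  have hsq' : IsPullback i' f'' f' U'.ι := (isPullback_morphismRestrict f' U').flip
  haveI : CompactSpace (f' ⁻¹ᵁ U').toScheme :=
    isCompact_iff_compactSpace.1 (f'.isCompact_preimage hU'.isCompact)
  haveI : QuasiSeparatedSpace (f' ⁻¹ᵁ U').toScheme := by
    haveI : QuasiSeparated i' := inferInstance
    exact quasiSeparatedSpace_of_quasiSeparated i'
  haveI : QuasiCompact f'' := inferInstance
  haveI := isIso_thA_open hsq'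
  suffices hs : DCoh.IsPerfect ((RR f'').obj ((resD i').obj E)) from
    isPerfect_of_iso hs (@asIso _ _ _ _ _ (isIso_thA_open hsq' E)).symm
  have hres : DCoh.IsPerfect ((resD i').obj E) := isPerfect_resD hE i'
  refine prop_of_generator (G := (resD i').obj ((DCoh.Lpull g').obj G))
    (isPerfect_resD (isPerfect_lpull g' hG) i') (fun F hF h0 => ?_)
    ((thick_isPerfect U'.toScheme).comap (RR f'')) ?_ hres
  · refine isZero_of_RR_comp h hU hU' e hF (hgen _ ?_ ?_ fun n ψ => ?_)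
    · haveI : QuasiCompact i' := quasiCompact_of_compactSpace i'
      haveI : QuasiCompact g' := quasiCompact_of_compactSpace g'
      haveI : QuasiSeparated g' := QuasiSeparated.of_quasiSeparatedSpace g'
      exact isQCohD_Rres g' _ (isQCohD_Rres i' F hF)
    · refine isZero_of_support_empty fun q => Set.eq_empty_iff_forall_notMem.2 fun x => ?_
      exact x.2.elim
    let Ad := a'.comp (resDAdj i')
    let R := RR i' ⋙ RR g'
    let ψ' : G ⟶ R.obj (F⟦-n⟧) :=
      (shiftShiftNeg G n).inv ≫ ψ⟦-n⟧' ≫ (R.commShiftIso (-n)).inv.app F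
    have h1 : ψ' = 0 := by
      have h2 := h0 n (((Ad.homEquiv G _).symm ψ')⟦n⟧' ≫ (shiftNegShift F n).hom)
      have h3 : (shiftFunctor _ n).map ((Ad.homEquiv G _).symm ψ') = 0 := by
        rw [← cancel_mono (shiftNegShift F n).hom, h2, zero_comp]
      have h4 : (Ad.homEquiv G _).symm ψ' = 0 := (shiftFunctor _ n).map_injective (h3.trans (Functor.map_zero _ _ _).symm)
      rw [← (Ad.homEquiv G _).apply_symm_apply ψ', h4, Adjunction.homEquiv_unit, Functor.map_zero, comp_zero]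
    have h5 : (shiftFunctor _ (-n)).map ψ = 0 := by
      rw [← cancel_epi (shiftShiftNeg G n).inv, ← cancel_mono ((R.commShiftIso (-n)).inv.app F), Category.assoc]
      exact h1.trans (by rw [comp_zero, zero_comp])
    exact (shiftFunctor _ (-n)).map_injective (h5.trans (Functor.map_zero _ _ _).symm)
  · show DCoh.IsPerfect ((RR f'').obj ((resD i').obj ((DCoh.Lpull g').obj G)))
    refine isPerfect_of_iso ?_ (@asIso _ _ _ _ _ (isIso_thA_open hsq' ((DCoh.Lpull g').obj G)))
    haveI := hbc _ a _ a' G (isQCohD_of_isPerfect hG)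
    exact isPerfect_resD (isPerfect_of_iso (isPerfect_lpull g (hP G hG)) (asIso (thA h a a' G))) U'.ι

end Square

end GrothLib.BaseChange22
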