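import Mathlib.CategoryTheory.Adjunction.Basic
import Mathlib.CategoryTheory.Yoneda
import Mathlib.CategoryTheory.HomCongr

/-! # The comparison of right adjoints adjoint to a base change morphism -/

set_option autoImplicit false
universe v₁ v₂ v₃ v₄ w₁ w₂ w₃ w₄

open CategoryTheory

namespace GrothLib.BaseChange22

variable {A : Type w₁} {B : Type w₂} {A' : Type w₃} {B' : Type w₄} [Category.{v₁} A] [Category.{v₂} B]
  [Category.{v₃} A'] [Category.{v₄} B']
  {F : A ⥤ B} {a : B ⥤ A} {F' : A' ⥤ B'} {a' : B' ⥤ A'} {G : B' ⥤ B} {G' : A' ⥤ A} {L : B ⥤ B'} {L' : A ⥤ A'}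
  (adj : F ⊣ a) (adj' : F' ⊣ a') (e : G' ⋙ F ≅ F' ⋙ G) (adjg : L ⊣ G) (adjg' : L' ⊣ G')

theorem homEquiv_symm_comp_xi {E : A} {M : B'} (x : L'.obj E ⟶ a'.obj M) :
    adjg'.homEquiv _ _ x ≫ adj.homEquiv _ _ (e.hom.app (a'.obj M) ≫ G.map (adj'.counit.app M)) =
      adj.homEquiv _ _ (adjg.homEquiv _ _
        ((adjg.homEquiv _ _).symm (F.map (adjg'.unit.app E) ≫ e.hom.app (L'.obj E)) ≫
          (adj'.homEquiv _ _).symm x)) := by
  rw [← Adjunction.homEquiv_naturality_left, adjg.homEquiv_naturality_right, Equiv.apply_symm_apply,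
    Adjunction.homEquiv_counit]
  congr 1
  rw [Adjunction.homEquiv_unit, F.map_comp, G.map_comp]
  simp only [Category.assoc]
  congr 1
  exact e.hom.naturality_assoc x _

/-- If base change is an isomorphism everywhere, so is the comparison of right adjoints. -/
theorem isIso_xi (h : ∀ E : A, IsIso ((adjg.homEquiv _ _).symm (F.map (adjg'.unit.app E) ≫ e.hom.app (L'.obj E))))
    (M : B') : IsIso (adj.homEquiv _ _ (e.hom.app (a'.obj M) ≫ G.map (adj'.counit.app M))) := by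
  refine isIso_of_yoneda_map_bijective _ fun E => ?_
  haveI := h E
  let θ := asIso ((adjg.homEquiv _ _).symm (F.map (adjg'.unit.app E) ≫ e.hom.app (L'.obj E)))
  show Function.Bijective fun y : E ⟶ G'.obj (a'.obj M) =>
    y ≫ adj.homEquiv _ _ (e.hom.app (a'.obj M) ≫ G.map (adj'.counit.app M))
  let Φ : (E ⟶ G'.obj (a'.obj M)) ≃ (E ⟶ a.obj (G.obj M)) :=
    (adjg'.homEquiv _ _).symm.trans ((adj'.homEquiv _ _).symm.trans ((θ.homCongr (Iso.refl M)).symm.trans
      ((adjg.homEquiv _ _).trans (adj.homEquiv _ _))))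
  have hΦ : (fun y : E ⟶ G'.obj (a'.obj M) =>
      y ≫ adj.homEquiv _ _ (e.hom.app (a'.obj M) ≫ G.map (adj'.counit.app M))) = Φ := ?_
  · rw [hΦ]
    exact Φ.bijective
  funext y
  obtain ⟨x, rfl⟩ := (adjg'.homEquiv _ _).surjective y
  simp [Φ, θ, Iso.homCongr]
  exact homEquiv_symm_comp_xi adj adj' e adjg adjg' x

end GrothLib.BaseChange22
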