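import Groth.Agent.Lib.BaseChange22.Mate
import Groth.Agent.Lib.TorBC25.BCFinal
import Groth.Agent.Lib.TorBC25.BCAffine
import Groth.Agent.Lib.TorFlipNat.Basic
import Groth.Prelude.Def_Dual3

/-! # Base change on the quasi-coherent derived categories -/

set_option autoImplicit false
set_option maxHeartbeats 1000000
set_option linter.style.haveILetI false
universe u

open CategoryTheory CategoryTheory.Limits AlgebraicGeometry

attribute [local instance] HasDerivedCategory.standard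

noncomputable section

namespace GrothLib.BaseChange22

open GrothLib.OX GrothLib.TorBC25

variable {X Y X' Y' : Scheme.{u}} {f : X ⟶ Y} {g : Y' ⟶ Y} {f' : X' ⟶ Y'} {g' : X' ⟶ X}

theorem subsingleton_tor_of_flat_right {R M N : Type u} [CommRing R] [AddCommGroup M] [Module R M] [AddCommGroup N]
    [Module R N] [Module.Flat R N] (i : ℕ) (hi : 0 < i) : Subsingleton (DRing.Tor R i M N) := by
  obtain ⟨p, rfl⟩ : ∃ p, i = p + 1 := ⟨i - 1, by omega⟩
  exact (GrothLib.DR.subsingleton_iff_isZero _).2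
    ((GrothLib.FlatFP.isZero_tor_succ_of_flat (ModuleCat.of R N) (ModuleCat.of R M) p).of_iso
      (TorFlipNat.θ (p + 1) (ModuleCat.of R M) (ModuleCat.of R N)))

/-- A square with one flat leg is tor independent. -/
theorem tor_of_flat (hflat : Flat f ∨ Flat g) : ∀ (U : Y.Opens), IsAffineOpen U → ∀ (U' : Y'.Opens), IsAffineOpen U' →
      ∀ (hU' : U' ≤ g ⁻¹ᵁ U) (V : X.Opens), IsAffineOpen V → ∀ (hV : V ≤ f ⁻¹ᵁ U) (i : ℕ), 0 < i →
      Subsingleton (@DRing.Tor Γ(Y, U) _ i Γ(Y', U') Γ(X, V) _ (g.appLE U U' hU').hom.toModule _ (f.appLE U V hV).hom.toModule) := by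
  intro U hU U' hU' e V hV e' i hi
  letI : Module Γ(Y, U) Γ(Y', U') := (g.appLE U U' e).hom.toModule
  letI : Module Γ(Y, U) Γ(X, V) := (f.appLE U V e').hom.toModule
  rcases hflat with h | h
  · haveI : Module.Flat Γ(Y, U) Γ(X, V) := HasRingHomProperty.appLE @Flat f h ⟨U, hU⟩ ⟨V, hV⟩ e'
    exact subsingleton_tor_of_flat_right i hi
  · haveI : Module.Flat Γ(Y, U) Γ(Y', U') := HasRingHomProperty.appLE @Flat g h ⟨U, hU⟩ ⟨U', hU'⟩ e
    exact TorBC25.subsingleton_tor_of_flat i hi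

variable [DCoh.HasRpush f] [DCoh.HasRpush f'] [DCoh.HasRpush g] [DCoh.HasRpush g']
variable (hf : DCoh.RpushPreservesQCoh f) (hf' : DCoh.RpushPreservesQCoh f')
variable (hg : DCoh.RpushPreservesQCoh g) (hg' : DCoh.RpushPreservesQCoh g')

/-- An identification of the derived direct images, on quasi-coherent objects. -/
def sqQ (e : DCoh.Rpush g' ⋙ DCoh.Rpush f ≅ DCoh.Rpush f' ⋙ DCoh.Rpush g) :
    DCoh.RpushQ g' hg' ⋙ DCoh.RpushQ f hf ≅ DCoh.RpushQ f' hf' ⋙ DCoh.RpushQ g hg :=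
  NatIso.ofComponents (fun K => (DCoh.IsQCohD (X := Y)).isoMk (e.app K.obj))
    fun {A B} φ => ObjectProperty.hom_ext _ (e.hom.naturality φ.hom)

/-- The adjunction of derived inverse and direct image on quasi-coherent objects. -/
def adjQ {A B : Scheme.{u}} {k : A ⟶ B} [DCoh.HasRpush k] [DCoh.HasLpull k] (hk : DCoh.RpushPreservesQCoh k)
    (adj : DCoh.Lpull k ⊣ DCoh.Rpush k) :
    Dual3.LpullQ k (fun _ hK => isQCohD_lpull k hK) ⊣ DCoh.RpushQ k hk :=
  adj.restrictFullyFaithful (DCoh.IsQCohD (X := B)).fullyFaithfulι (DCoh.IsQCohD (X := A)).fullyFaithfulι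
    (Iso.refl _) (Iso.refl _)

theorem adjQ_unit_hom {A B : Scheme.{u}} {k : A ⟶ B} [DCoh.HasRpush k] [DCoh.HasLpull k]
    (hk : DCoh.RpushPreservesQCoh k) (adj : DCoh.Lpull k ⊣ DCoh.Rpush k) (K : DCoh.DQCoh B) :
    ((adjQ hk adj).unit.app K).hom = adj.unit.app K.obj := by
  have h := Adjunction.map_restrictFullyFaithful_unit_app (adj := adj) (hiC := (DCoh.IsQCohD (X := B)).fullyFaithfulι)
    (hiD := (DCoh.IsQCohD (X := A)).fullyFaithfulι) (L := Dual3.LpullQ k (fun _ hK => isQCohD_lpull k hK))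
    (R := DCoh.RpushQ k hk) (comm1 := Iso.refl _) (comm2 := Iso.refl _) (X := K)
  refine h.trans ?_
  simp

/-- **Base change on `D_QCoh`**, for all left adjoints at once. -/
theorem exists_sqQ_bc (h : IsPullback g' f' f g) (hbc : BC h) :
    ∃ e : DCoh.RpushQ g' hg' ⋙ DCoh.RpushQ f hf ≅ DCoh.RpushQ f' hf' ⋙ DCoh.RpushQ g hg,
      ∀ (L : DCoh.DQCoh Y ⥤ DCoh.DQCoh Y') (L' : DCoh.DQCoh X ⥤ DCoh.DQCoh X') (adjg : L ⊣ DCoh.RpushQ g hg)
        (adjg' : L' ⊣ DCoh.RpushQ g' hg') (K : DCoh.DQCoh X),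
        IsIso ((adjg.homEquiv _ _).symm
          ((DCoh.RpushQ f hf).map (adjg'.unit.app K) ≫ e.hom.app (L'.obj K))) := by
  haveI := hasLpull g
  haveI := hasLpull g'
  obtain ⟨a⟩ := nonempty_lpullAdj g
  obtain ⟨a'⟩ := nonempty_lpullAdj g'
  obtain ⟨e, he⟩ := exists_baseChangeApp h a a' hbc
  refine ⟨sqQ hf hf' hg hg' e, fun L L' adjg adjg' K => ?_⟩
  let b := adjQ hg a
  let b' := adjQ hg' a'
  let E := sqQ hf hf' hg hg' e
  have h0 : IsIso ((b.homEquiv _ _).symm ((DCoh.RpushQ f hf).map (b'.unit.app K) ≫ E.hom.app _)) := by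
    let φ := (b.homEquiv _ _).symm ((DCoh.RpushQ f hf).map (b'.unit.app K) ≫ E.hom.app _)
    have hφ : φ.hom = DCoh.baseChangeApp a a' e K.obj := by
      apply (a.homEquiv _ _).injective
      refine Eq.trans ?_ (Equiv.apply_symm_apply _ _).symm
      have h1 : (b.homEquiv _ _ φ).hom = a.homEquiv _ _ φ.hom := by
        rw [Adjunction.homEquiv_unit, Adjunction.homEquiv_unit]
        show (b.unit.app _).hom ≫ (DCoh.Rpush g).map φ.hom = _
        rw [adjQ_unit_hom]
        rfl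
      refine h1.symm.trans ((congrArg InducedCategory.Hom.hom (show b.homEquiv _ _ φ = _ from Equiv.apply_symm_apply (b.homEquiv _ _) _)).trans ?_)
      have h2 : (b'.unit.app K).hom = a'.unit.app K.obj := adjQ_unit_hom hg' a' K
      show (DCoh.Rpush f).map (b'.unit.app K).hom ≫ e.hom.app _ = _
      rw [h2]
      rfl
    haveI : IsIso φ.hom := hφ ▸ he K.obj K.property
    haveI : IsIso ((DCoh.IsQCohD (X := Y')).ι.map φ) := ‹IsIso φ.hom›
    exact isIso_of_fully_faithful (DCoh.IsQCohD (X := Y')).ι φ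
  let u := adjg.leftAdjointUniq b
  let u' := adjg'.leftAdjointUniq b'
  have hcomp : (adjg.homEquiv _ _).symm ((DCoh.RpushQ f hf).map (adjg'.unit.app K) ≫ E.hom.app (L'.obj K)) ≫
      (DCoh.RpushQ f' hf').map (u'.hom.app K) =
      u.hom.app _ ≫ (b.homEquiv _ _).symm ((DCoh.RpushQ f hf).map (b'.unit.app K) ≫ E.hom.app _) := by
    apply (adjg.homEquiv _ _).injective
    rw [Adjunction.homEquiv_naturality_right, Equiv.apply_symm_apply, Category.assoc]
    rw [show E.hom.app (L'.obj K) ≫ (DCoh.RpushQ g hg).map ((DCoh.RpushQ f' hf').map (u'.hom.app K)) =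
      (DCoh.RpushQ f hf).map ((DCoh.RpushQ g' hg').map (u'.hom.app K)) ≫ E.hom.app _ from
      (E.hom.naturality (u'.hom.app K)).symm, ← Category.assoc, ← Functor.map_comp,
      Adjunction.unit_leftAdjointUniq_hom_app, Adjunction.homEquiv_unit, Functor.map_comp, ← Category.assoc,
      Adjunction.unit_leftAdjointUniq_hom_app, ← Adjunction.homEquiv_unit, Equiv.apply_symm_apply]
  haveI := h0
  exact @IsIso.of_isIso_fac_right _ _ _ _ _ _ _ _ _ inferInstance hcomp

end GrothLib.BaseChange22
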